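import Mathlib
import Groth.Agent.FlatMor.K26.StabDefs

/-!
Three short nodes for the reduced fibre theorem over valuation rings (S14900).
-/

set_option autoImplicit false
universe u

open TensorProduct

namespace K667.Short

open K26.Stab

theorem EFT_trans {N : Type u} [Field N] {Γ₀ : Type u} [LinearOrderedCommGroupWithZero Γ₀]
    {v : Valuation N Γ₀} {F F' F'' : Subfield N} (_h12 : F ≤ F') (h23 : F' ≤ F'') (h : EFT v F F')
    (h' : EFT v F' F'') : EFT v F F'' := by
  classical
  obtain ⟨T, hT, hTx⟩ := h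
  obtain ⟨T', hT', hTx'⟩ := h'
  refine ⟨T ∪ T', ?_, ?_⟩
  · intro t ht
    rcases Finset.mem_union.mp ht with ht | ht
    · exact ⟨h23 (hT t ht).1, (hT t ht).2⟩
    · exact hT' t ht
  · have hmono : Subring.closure ({x | x ∈ F ∧ v x ≤ 1} ∪ (T : Set N)) ≤
        Subring.closure ({x | x ∈ F ∧ v x ≤ 1} ∪ ((T ∪ T' : Finset N) : Set N)) := by
      refine Subring.closure_mono ?_
      rintro x (hx | hx)
      · exact Or.inl hx
      · exact Or.inr (by simpa using Or.inl hx)
    have key : ∀ y ∈ Subring.closure ({x | x ∈ F' ∧ v x ≤ 1} ∪ (T' : Set N)),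
        ∃ c ∈ Subring.closure ({x | x ∈ F ∧ v x ≤ 1} ∪ ((T ∪ T' : Finset N) : Set N)), v c = 1 ∧
          y * c ∈ Subring.closure ({x | x ∈ F ∧ v x ≤ 1} ∪ ((T ∪ T' : Finset N) : Set N)) := by
      intro y hy
      induction hy using Subring.closure_induction with
      | mem x hx =>
        rcases hx with hx | hx
        · obtain ⟨a, ha, b, hb, hb1, hab⟩ := hTx x hx.1 hx.2
          exact ⟨b, hmono hb, hb1, by rw [hab]; exact hmono ha⟩
        · refine ⟨1, one_mem _, map_one _, ?_⟩
          rw [mul_one]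
          refine Subring.subset_closure (Or.inr ?_)
          simpa using Or.inr hx
      | zero => exact ⟨1, one_mem _, map_one _, by simp⟩
      | one => exact ⟨1, one_mem _, map_one _, by simp⟩
      | add x y _ _ hx hy =>
        obtain ⟨c, hc, hc1, hxc⟩ := hx
        obtain ⟨d, hd, hd1, hyd⟩ := hy
        refine ⟨c * d, mul_mem hc hd, by rw [map_mul, hc1, hd1, one_mul], ?_⟩
        have : (x + y) * (c * d) = x * c * d + y * d * c := by ring
        rw [this]
        exact add_mem (mul_mem hxc hd) (mul_mem hyd hc)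
      | neg x _ hx =>
        obtain ⟨c, hc, hc1, hxc⟩ := hx
        exact ⟨c, hc, hc1, by rw [neg_mul]; exact neg_mem hxc⟩
      | mul x y _ _ hx hy =>
        obtain ⟨c, hc, hc1, hxc⟩ := hx
        obtain ⟨d, hd, hd1, hyd⟩ := hy
        refine ⟨c * d, mul_mem hc hd, by rw [map_mul, hc1, hd1, one_mul], ?_⟩
        have : x * y * (c * d) = (x * c) * (y * d) := by ring
        rw [this]
        exact mul_mem hxc hyd
    intro x hx hvx
    obtain ⟨a, ha, b, hb, hb1, hab⟩ := hTx' x hx hvx
    obtain ⟨c, hc, hc1, hac⟩ := key a ha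
    obtain ⟨d, hd, hd1, hbd⟩ := key b hb
    refine ⟨a * c * d, mul_mem hac hd, b * d * c, mul_mem hbd hc, ?_, ?_⟩
    · rw [map_mul, map_mul, hb1, hc1, hd1]; simp
    · rw [← hab]; ring

theorem exists_extension {R : Type u} [CommRing R] [IsDomain R] [ValuationRing R] {d : ℕ}
    (N : Type u) [Field N] [Algebra R N] [Algebra (MvPolynomial (Fin d) R) N]
    [IsScalarTower R (MvPolynomial (Fin d) R) N]
    (hinj : Function.Injective (algebraMap (MvPolynomial (Fin d) R) N)) :
    ∃ (Γ₀ : Type u) (_ : LinearOrderedCommGroupWithZero Γ₀) (v : Valuation N Γ₀), Base₀ R v ∧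
      ∀ P : MvPolynomial (Fin d) R, (∃ m, IsUnit (P.coeff m)) →
        v (algebraMap (MvPolynomial (Fin d) R) N P) = 1 := by
  classical
  let ρ : MvPolynomial (Fin d) R →+* MvPolynomial (Fin d) (IsLocalRing.ResidueField R) :=
    MvPolynomial.map (IsLocalRing.residue R)
  let 𝔭 : Ideal (MvPolynomial (Fin d) R) := RingHom.ker ρ
  have : 𝔭.IsPrime := RingHom.ker_isPrime ρ
  have hunit : ∀ y : 𝔭.primeCompl, IsUnit (algebraMap (MvPolynomial (Fin d) R) N y) := by
    intro y
    refine IsUnit.mk0 _ ?_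
    intro h0
    apply y.2
    have : (y : MvPolynomial (Fin d) R) = 0 := hinj (by rw [h0, map_zero])
    rw [this]
    exact 𝔭.zero_mem
  let f : Localization.AtPrime 𝔭 →+* N := IsLocalization.lift hunit
  have hf : ∀ P, f (algebraMap _ _ P) = algebraMap (MvPolynomial (Fin d) R) N P :=
    fun P => IsLocalization.lift_eq hunit P
  obtain ⟨B, hB, hloc⟩ := IsLocalRing.exists_factor_valuationRing f
  have hmem : ∀ P : MvPolynomial (Fin d) R, algebraMap (MvPolynomial (Fin d) R) N P ∈ B := by
    intro P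
    rw [← hf]
    exact hB _
  have hle : ∀ P : MvPolynomial (Fin d) R, B.valuation (algebraMap (MvPolynomial (Fin d) R) N P) ≤ 1 :=
    fun P => (B.valuation_le_one_iff _).mpr (hmem P)
  have hone : ∀ P : MvPolynomial (Fin d) R, P ∉ 𝔭 →
      B.valuation (algebraMap (MvPolynomial (Fin d) R) N P) = 1 := by
    intro P hP
    have h1 : IsUnit (algebraMap (MvPolynomial (Fin d) R) (Localization.AtPrime 𝔭) P) :=
      IsLocalization.map_units _ (⟨P, hP⟩ : 𝔭.primeCompl)
    have h2 : IsUnit ((f.codRestrict B.toSubring hB) (algebraMap _ _ P)) := h1.map _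
    have h3 := (B.valuation_eq_one_iff ((f.codRestrict B.toSubring hB) (algebraMap _ _ P))).mp h2
    rw [← hf]
    exact h3
  have hlt : ∀ P : MvPolynomial (Fin d) R, P ∈ 𝔭 →
      B.valuation (algebraMap (MvPolynomial (Fin d) R) N P) < 1 := by
    intro P hP
    refine lt_of_le_of_ne (hle P) ?_
    intro h
    have h1 : IsUnit ((f.codRestrict B.toSubring hB) (algebraMap _ _ P)) := by
      refine (B.valuation_eq_one_iff ((f.codRestrict B.toSubring hB) (algebraMap _ _ P))).mpr ?_
      rw [← hf] at h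
      exact h
    have h2 : IsUnit (algebraMap (MvPolynomial (Fin d) R) (Localization.AtPrime 𝔭) P) :=
      hloc.map_nonunit _ h1
    exact (IsLocalization.AtPrime.isUnit_to_map_iff (Localization.AtPrime 𝔭) 𝔭 P).mp h2 hP
  have hC : ∀ r : R, algebraMap R N r = algebraMap (MvPolynomial (Fin d) R) N (MvPolynomial.C r) := by
    intro r
    rw [IsScalarTower.algebraMap_apply R (MvPolynomial (Fin d) R) N, MvPolynomial.algebraMap_eq]
  refine ⟨B.ValueGroup, inferInstance, B.valuation, ⟨?_, ?_, ?_⟩, ?_⟩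
  · intro a b hab
    rw [hC, hC] at hab
    exact MvPolynomial.C_injective _ _ (hinj hab)
  · intro r
    rw [hC]
    exact hle _
  · intro r hr
    rw [hC]
    refine hlt _ ?_
    change ρ (MvPolynomial.C r) = 0
    have : IsLocalRing.residue R r = 0 := by
      rw [IsLocalRing.residue_eq_zero_iff]
      exact (IsLocalRing.mem_maximalIdeal r).mpr hr
    simp only [ρ, MvPolynomial.map_C, this, map_zero]
  · rintro P ⟨m, hm⟩
    refine hone P ?_
    intro hP
    have h0 : ρ P = 0 := hP
    have h1 : (ρ P).coeff m = 0 := by rw [h0, MvPolynomial.coeff_zero]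
    rw [MvPolynomial.coeff_map] at h1
    rw [IsLocalRing.residue_eq_zero_iff] at h1
    exact (IsLocalRing.mem_maximalIdeal _).mp h1 hm

theorem exists_eq_smul {R : Type*} [CommRing R] [IsDomain R] [ValuationRing R]
    {C : Type*} [CommRing C] [Algebra R C] {x : C}
    (hx : x ∈ (IsLocalRing.maximalIdeal R).map (algebraMap R C)) :
    ∃ c ∈ IsLocalRing.maximalIdeal R, ∃ y : C, x = algebraMap R C c * y := by
  induction hx using Submodule.span_induction with
  | mem x hx =>
    obtain ⟨c, hc, rfl⟩ := hx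
    exact ⟨c, hc, 1, by rw [mul_one]⟩
  | zero => exact ⟨0, Ideal.zero_mem _, 0, by simp⟩
  | add x y _ _ hx hy =>
    obtain ⟨a, ha, x', rfl⟩ := hx
    obtain ⟨b, hb, y', rfl⟩ := hy
    rcases ValuationRing.dvd_total a b with ⟨c, rfl⟩ | ⟨c, rfl⟩
    · exact ⟨a, ha, x' + algebraMap R C c * y', by rw [map_mul]; ring⟩
    · exact ⟨b, hb, algebraMap R C c * x' + y', by rw [map_mul]; ring⟩
  | smul r x _ hx =>
    obtain ⟨a, ha, x', rfl⟩ := hx
    exact ⟨a, ha, r * x', by rw [smul_eq_mul]; ring⟩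

theorem isReduced_closedFibre (R : Type u) [CommRing R] [IsDomain R] [ValuationRing R]
    (hsq : ∀ c : R, c ≠ 0 → ∃ d : R, Associated c (d ^ 2))
    (A : Type u) [CommRing A] [Algebra R A] [Module.Flat R A] (K : Type u) [Field K] [Algebra R K]
    [IsFractionRing R K] (hred : IsReduced (A ⊗[R] K)) :
    IsReduced ((R ⧸ IsLocalRing.maximalIdeal R) ⊗[R] ↥(integralClosure A (A ⊗[R] K))) := by
  let C : Subalgebra A (A ⊗[R] K) := integralClosure A (A ⊗[R] K)
  let e := (Algebra.TensorProduct.quotIdealMapEquivTensorQuot ↥C (IsLocalRing.maximalIdeal R))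
  let e' := (Algebra.TensorProduct.comm R (R ⧸ IsLocalRing.maximalIdeal R) ↥C)
  have hrad : IsReduced (↥C ⧸ (IsLocalRing.maximalIdeal R).map (algebraMap R ↥C)) := by
    rw [isReduced_iff_pow_one_lt 2 (by norm_num)]
    intro x hx
    obtain ⟨x, rfl⟩ := Ideal.Quotient.mk_surjective x
    rw [← map_pow, Ideal.Quotient.eq_zero_iff_mem] at hx
    rw [Ideal.Quotient.eq_zero_iff_mem]
    obtain ⟨c, hc, y, hxy⟩ := exists_eq_smul hx
    have hCred : IsReduced ↥C := isReduced_of_injective (C.val : ↥C →ₐ[A] A ⊗[R] K) Subtype.val_injective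
    by_cases hc0 : c = 0
    · rw [hc0, map_zero, zero_mul] at hxy
      have : x = 0 := by
        have := hCred
        exact pow_eq_zero_iff (two_ne_zero) |>.mp hxy
      rw [this]
      exact Ideal.zero_mem _
    · obtain ⟨d, hd⟩ := hsq c hc0
      obtain ⟨w, hw⟩ := hd
      have hd0 : d ≠ 0 := by
        rintro rfl
        rw [zero_pow two_ne_zero] at hw
        exact hc0 ((Units.mul_left_eq_zero w).mp hw)
      have hdm : d ∈ IsLocalRing.maximalIdeal R := by
        rw [IsLocalRing.mem_maximalIdeal]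
        intro hu
        rw [IsLocalRing.mem_maximalIdeal] at hc
        apply hc
        have h2 : IsUnit (d ^ 2) := hu.pow 2
        rw [← hw] at h2
        exact isUnit_of_mul_isUnit_left h2
      have hdu : IsUnit (algebraMap R K d) := IsUnit.mk0 _ (by
        intro h
        exact hd0 ((map_eq_zero_iff _ (IsFractionRing.injective R K)).mp h))
      have hdu' : IsUnit (algebraMap R (A ⊗[R] K) d) := by
        have : algebraMap R (A ⊗[R] K) d =
            (Algebra.TensorProduct.includeRight : K →ₐ[R] A ⊗[R] K) (algebraMap R K d) := by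
          rw [AlgHom.commutes]
        rw [this]
        exact hdu.map _
      obtain ⟨D, hD⟩ := hdu'
      -- z = x / d
      let z : A ⊗[R] K := (↑D⁻¹ : A ⊗[R] K) * (x : A ⊗[R] K)
      have hz2 : z ^ 2 = ((algebraMap R ↥C (↑w⁻¹ : R) * y : ↥C) : A ⊗[R] K) := by
        have h1 : (x : A ⊗[R] K) ^ 2 = algebraMap R (A ⊗[R] K) c * (y : A ⊗[R] K) := by
          have := congrArg (fun t : ↥C => (t : A ⊗[R] K)) hxy
          simpa using this
        have h2 : algebraMap R (A ⊗[R] K) c = algebraMap R (A ⊗[R] K) (↑w⁻¹ : R) * (D : A ⊗[R] K) ^ 2 := by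
          rw [hD, ← map_pow, ← map_mul, ← hw]
          congr 1
          rw [mul_comm c, ← mul_assoc, Units.inv_mul, one_mul]
        have h3 : ((algebraMap R ↥C (↑w⁻¹ : R) * y : ↥C) : A ⊗[R] K) =
            algebraMap R (A ⊗[R] K) (↑w⁻¹ : R) * (y : A ⊗[R] K) := rfl
        rw [h3]
        simp only [z]
        rw [mul_pow, h1, h2]
        have h4 : ((↑D⁻¹ : A ⊗[R] K)) * (D : A ⊗[R] K) = 1 := Units.inv_mul D
        calc (↑D⁻¹ : A ⊗[R] K) ^ 2 * (algebraMap R (A ⊗[R] K) (↑w⁻¹ : R) * (D : A ⊗[R] K) ^ 2 * (y : A ⊗[R] K))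
            = ((↑D⁻¹ : A ⊗[R] K) * (D : A ⊗[R] K)) ^ 2 * (algebraMap R (A ⊗[R] K) (↑w⁻¹ : R) * (y : A ⊗[R] K)) := by
              ring
          _ = _ := by rw [h4, one_pow, one_mul]
      have hzint : IsIntegral A z := by
        refine IsIntegral.of_pow (n := 2) (by norm_num) ?_
        rw [hz2]
        exact (algebraMap R ↥C (↑w⁻¹ : R) * y : ↥C).2
      have hxz : x = algebraMap R ↥C d * (⟨z, hzint⟩ : ↥C) := by
        apply Subtype.ext
        change (x : A ⊗[R] K) = algebraMap R (A ⊗[R] K) d * z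
        simp only [z]
        rw [← hD, ← mul_assoc, Units.mul_inv, one_mul]
      rw [hxz]
      exact Ideal.mul_mem_right _ _ (Ideal.mem_map_of_mem _ hdm)
  have h1 : IsReduced (↥C ⊗[R] (R ⧸ IsLocalRing.maximalIdeal R)) :=
    isReduced_of_injective e.symm.toRingHom e.symm.injective
  exact isReduced_of_injective e'.toRingHom e'.injective

end K667.Short
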